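import Mathlib

/-!
The limit of an additive subgroup of a ring under the flow `w ↦ (1 + t b) w (1 - t c)`, for
`b * b = 0 = c * c`, described through power series.
-/

set_option autoImplicit false

namespace Cfsg.Lib.QuadLimit

open PowerSeries

variable {R : Type*} [Ring R]

theorem le_of_pow_le_pow_add_two {a l : ℕ} (hl : 0 < l) (h : ∀ n : ℕ, a ^ n ≤ l ^ (n + 2)) :
    a ≤ l := by
  by_contra hla
  rw [not_le] at hla
  have h1 : (l + 1) ^ (l * (l * l) + 1) ≤ l ^ (l * (l * l) + 1 + 2) :=
    le_trans (Nat.pow_le_pow_left hla _) (h _)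
  have h2 : ∀ n : ℕ, l ^ n * (l + n) ≤ (l + 1) ^ n * l := by
    intro n
    induction n with
    | zero => simp
    | succ n ih =>
      calc l ^ (n + 1) * (l + (n + 1)) = l ^ n * (l * (l + (n + 1))) := by ring
        _ ≤ l ^ n * ((l + 1) * (l + n)) := Nat.mul_le_mul_left _ (by ring_nf; omega)
        _ = (l + 1) * (l ^ n * (l + n)) := by ring
        _ ≤ (l + 1) * ((l + 1) ^ n * l) := Nat.mul_le_mul_left _ ih
        _ = (l + 1) ^ (n + 1) * l := by ring
  have h3 := (h2 (l * (l * l) + 1)).trans (Nat.mul_le_mul_right l h1)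
  have h4 : l ^ (l * (l * l) + 1) * (l + (l * (l * l) + 1)) ≤
      l ^ (l * (l * l) + 1) * (l * (l * l)) := by
    refine h3.trans (le_of_eq ?_)
    ring
  have := Nat.le_of_mul_le_mul_left h4 (Nat.pow_pos hl)
  omega

/-- power series with all coefficients in `S` -/
def coeffs (S : AddSubgroup R) : AddSubgroup (PowerSeries R) where
  carrier := {f | ∀ n, coeff n f ∈ S}
  zero_mem' n := by simp
  add_mem' hf hg n := by simpa using S.add_mem (hf n) (hg n)
  neg_mem' hf n := by simpa using S.neg_mem (hf n)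

theorem mem_coeffs {S : AddSubgroup R} {f : PowerSeries R} : f ∈ coeffs S ↔ ∀ n, coeff n f ∈ S :=
  Iff.rfl

theorem X_mul_mem_coeffs {S : AddSubgroup R} {f : PowerSeries R} (hf : f ∈ coeffs S) :
    X * f ∈ coeffs S := by
  rintro (_ | n)
  · rw [coeff_zero_X_mul]; exact S.zero_mem
  · rw [coeff_succ_X_mul]; exact hf n

theorem mem_coeffs_of_X_mul {S : AddSubgroup R} {f : PowerSeries R} (hf : X * f ∈ coeffs S) :
    f ∈ coeffs S := fun n => by simpa [coeff_succ_X_mul] using hf (n + 1)

theorem eq_zero_of_X_mul {f : PowerSeries R} (hf : X * f = 0) : f = 0 := by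
  ext n
  simpa [coeff_succ_X_mul] using congrArg (coeff (n + 1)) hf

/-- the series `(X - b) f (X + c)` -/
noncomputable def psi (b c : R) (f : PowerSeries R) : PowerSeries R := (X - C b) * f * (X + C c)

/-- the series `(X + b) f (X - c)` -/
noncomputable def phi (b c : R) (f : PowerSeries R) : PowerSeries R := (X + C b) * f * (X - C c)

theorem psi_add (b c : R) (f g : PowerSeries R) : psi b c (f + g) = psi b c f + psi b c g := by
  simp only [psi, mul_add, add_mul]
  abel

theorem psi_neg (b c : R) (f : PowerSeries R) : psi b c (-f) = -psi b c f := by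
  simp only [psi, mul_neg, neg_mul]

theorem psi_sub (b c : R) (f g : PowerSeries R) : psi b c (f - g) = psi b c f - psi b c g := by
  simp only [psi, mul_sub, sub_mul]

theorem sub_mul_add {b : R} (hb : b * b = 0) :
    (X - C b) * (X + C b : PowerSeries R) = X * X := by
  rw [sub_mul, mul_add, mul_add, (commute_X (C b)).eq, ← map_mul, hb, map_zero]
  abel

theorem add_mul_sub {b : R} (hb : b * b = 0) :
    (X + C b) * (X - C b : PowerSeries R) = X * X := by
  rw [add_mul, mul_sub, mul_sub, (commute_X (C b)).eq, ← map_mul, hb, map_zero]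
  abel

theorem psi_phi {b c : R} (hb : b * b = 0) (hc : c * c = 0) (f : PowerSeries R) :
    psi b c (phi b c f) = X * (X * (X * (X * f))) := by
  calc psi b c (phi b c f) = ((X - C b) * (X + C b)) * f * ((X - C c) * (X + C c)) := by
        simp only [psi, phi, mul_assoc]
    _ = _ := by
      rw [sub_mul_add hb, sub_mul_add hc, mul_assoc, mul_assoc,
        ((commute_X f).mul_right (commute_X f)).eq]
      simp only [mul_assoc]

theorem phi_psi {b c : R} (hb : b * b = 0) (hc : c * c = 0) (f : PowerSeries R) :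
    phi b c (psi b c f) = X * (X * (X * (X * f))) := by
  calc phi b c (psi b c f) = ((X + C b) * (X - C b)) * f * ((X + C c) * (X - C c)) := by
        simp only [psi, phi, mul_assoc]
    _ = _ := by
      rw [add_mul_sub hb, add_mul_sub hc, mul_assoc, mul_assoc,
        ((commute_X f).mul_right (commute_X f)).eq]
      simp only [mul_assoc]

theorem psi_X_mul (b c : R) (f : PowerSeries R) : psi b c (X * f) = X * psi b c f := by
  simp only [psi, ← mul_assoc, (commute_X (X - C b)).eq]

theorem phi_eq (b c : R) (g : PowerSeries R) :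
    phi b c g = X * (X * g) + X * (C b * g - g * C c) - C b * g * C c := by
  simp only [phi, mul_sub, mul_add, add_mul, ← mul_assoc]
  rw [mul_assoc X g X, (commute_X g).eq, (commute_X (C b * g)).eq]
  simp only [mul_assoc]
  abel

theorem psi_eq (b c : R) (g : PowerSeries R) :
    psi b c g = X * (X * g) + X * (g * C c - C b * g) - C b * g * C c := by
  simp only [psi, mul_sub, mul_add, sub_mul, ← mul_assoc]
  rw [mul_assoc X g X, (commute_X g).eq, (commute_X (C b * g)).eq]
  simp only [mul_assoc]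
  abel

/-- series whose transform has all coefficients in `W` -/
noncomputable def sat (b c : R) (W : AddSubgroup R) : AddSubgroup (PowerSeries R) where
  carrier := {f | psi b c f ∈ coeffs W}
  zero_mem' := by simp [psi]
  add_mem' {f g} hf hg := by
    show psi b c (f + g) ∈ coeffs W
    rw [psi_add]; exact (coeffs W).add_mem hf hg
  neg_mem' {f} hf := by
    show psi b c (-f) ∈ coeffs W
    rw [psi_neg]; exact (coeffs W).neg_mem hf

theorem mem_sat {b c : R} {W : AddSubgroup R} {f : PowerSeries R} :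
    f ∈ sat b c W ↔ psi b c f ∈ coeffs W := Iff.rfl

/-- the limit of `W` -/
noncomputable def lim (b c : R) (W : AddSubgroup R) : AddSubgroup R :=
  (sat b c W).map (constantCoeff : PowerSeries R →+* R).toAddMonoidHom

theorem mem_lim {b c : R} {W : AddSubgroup R} {u : R} :
    u ∈ lim b c W ↔ ∃ f ∈ sat b c W, constantCoeff f = u := Iff.rfl

theorem lim_mono (b c : R) {W W' : AddSubgroup R} (h : W ≤ W') : lim b c W ≤ lim b c W' :=
  AddSubgroup.map_mono fun f hf n => h (hf n)

theorem sat_of_X_mul {b c : R} {W : AddSubgroup R} {f : PowerSeries R} (hf : X * f ∈ sat b c W) :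
    f ∈ sat b c W := by
  rw [mem_sat, psi_X_mul] at hf
  exact mem_coeffs_of_X_mul hf

theorem lim_le {b c : R} (hb : b * b = 0) (hc : c * c = 0) {W L : AddSubgroup R}
    (h0 : ∀ w ∈ W, w ∈ L) (h1 : ∀ w ∈ W, b * w - w * c ∈ L) (h2 : ∀ w ∈ W, b * w * c ∈ L) :
    lim b c W ≤ L := by
  rintro u hu
  obtain ⟨f, hf, rfl⟩ := mem_lim.1 hu
  have h : phi b c (psi b c f) ∈ coeffs L := by
    rw [phi_eq]
    refine (coeffs L).sub_mem ((coeffs L).add_mem
      (X_mul_mem_coeffs (X_mul_mem_coeffs fun n => h0 _ (hf n))) (X_mul_mem_coeffs fun n => ?_))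
      fun n => ?_
    · rw [map_sub, coeff_C_mul, coeff_mul_C]; exact h1 _ (hf n)
    · rw [coeff_mul_C, coeff_C_mul]; exact h2 _ (hf n)
  rw [phi_psi hb hc] at h
  simpa using mem_coeffs_of_X_mul (mem_coeffs_of_X_mul (mem_coeffs_of_X_mul
    (mem_coeffs_of_X_mul h))) 0

theorem mem_lim_of_fixed {b c : R} {W : AddSubgroup R} {w : R} (h0 : w ∈ W)
    (h1 : b * w - w * c ∈ W) (h2 : b * w * c ∈ W) : w ∈ lim b c W := by
  refine mem_lim.2 ⟨C w, ?_, constantCoeff_C w⟩
  have hC : ∀ x ∈ W, (C x : PowerSeries R) ∈ coeffs W := fun x hx n => by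
    rw [coeff_C]; split_ifs
    · exact hx
    · exact W.zero_mem
  rw [mem_sat, psi_eq]
  refine (coeffs W).sub_mem ((coeffs W).add_mem (X_mul_mem_coeffs (X_mul_mem_coeffs (hC w h0)))
    (X_mul_mem_coeffs ?_)) ?_
  · rw [← map_mul, ← map_mul, ← map_sub]
    exact hC _ (by simpa using W.neg_mem h1)
  · rw [← map_mul, ← map_mul]; exact hC _ h2

theorem mul_eq_zero_of_mem_lim {b c : R} (hb : b * b = 0) (hc : c * c = 0) {W W' : AddSubgroup R}
    (h : ∀ w ∈ W, ∀ w' ∈ W', w * w' = 0) {u v : R} (hu : u ∈ lim b b W) (hv : v ∈ lim b c W') :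
    u * v = 0 := by
  obtain ⟨f, hf, rfl⟩ := mem_lim.1 hu
  obtain ⟨g, hg, rfl⟩ := mem_lim.1 hv
  have h1 : psi b b f * psi b c g = 0 := by
    ext n
    rw [coeff_mul, map_zero]
    exact Finset.sum_eq_zero fun x _ => h _ (hf _) _ (hg _)
  have h2 : psi b b f * psi b c g = psi b c (X * (X * (f * g))) := by
    calc psi b b f * psi b c g
        = (X - C b) * f * ((X + C b) * (X - C b)) * g * (X + C c) := by
          simp only [psi, mul_assoc]
      _ = _ := by
          rw [add_mul_sub hb, psi, mul_assoc (X - C b) f, ((commute_X f).mul_right (commute_X f)).eq]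
          simp only [mul_assoc]
  have h3 := congrArg (phi b c) (h2.symm.trans h1)
  rw [phi_psi hb hc, show phi b c 0 = 0 by simp [phi]] at h3
  have h4 := eq_zero_of_X_mul (eq_zero_of_X_mul (eq_zero_of_X_mul (eq_zero_of_X_mul
    (eq_zero_of_X_mul (eq_zero_of_X_mul h3)))))
  rw [← map_mul, h4, map_zero]

theorem eps_mem_lim {b : R} (hb : b * b = 0) {W : AddSubgroup R} {w : R} (hw : w ∈ W) :
    b * w * b ∈ lim b b W := by
  refine mem_lim.2 ⟨-phi b b (C w), (sat b b W).neg_mem ?_, ?_⟩
  · rw [mem_sat, psi_phi hb hb]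
    refine X_mul_mem_coeffs (X_mul_mem_coeffs (X_mul_mem_coeffs (X_mul_mem_coeffs fun n => ?_)))
    rw [coeff_C]; split_ifs
    · exact hw
    · exact W.zero_mem
  · simp [phi]

theorem delta_mem_lim {b : R} (hb : b * b = 0) {W : AddSubgroup R} {w : R} (hw : w ∈ W)
    (he : b * w * b ∈ W) : b * w - w * b ∈ lim b b W := by
  have hC : ∀ x ∈ W, (C x : PowerSeries R) ∈ coeffs W := fun x hx n => by
    rw [coeff_C]; split_ifs
    · exact hx
    · exact W.zero_mem
  have h1 : phi b b (C w) + C (b * w * b) = X * (X * C w + C (b * w - w * b)) := by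
    rw [phi_eq, map_sub, map_mul, map_mul, map_mul, mul_add]
    abel
  refine mem_lim.2 ⟨X * C w + C (b * w - w * b), sat_of_X_mul ?_, by simp⟩
  rw [← h1]
  refine (sat b b W).add_mem ?_ ?_
  · rw [mem_sat, psi_phi hb hb]
    exact X_mul_mem_coeffs (X_mul_mem_coeffs (X_mul_mem_coeffs (X_mul_mem_coeffs (hC w hw))))
  · rw [mem_sat, psi_eq]
    refine (coeffs W).sub_mem ((coeffs W).add_mem (X_mul_mem_coeffs (X_mul_mem_coeffs (hC _ he)))
      (X_mul_mem_coeffs ?_)) ?_
    · rw [← map_mul, ← map_mul, ← map_sub,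
        show b * w * b * b - b * (b * w * b) = 0 by
          rw [mul_assoc (b * w), hb, ← mul_assoc b, ← mul_assoc b b, hb]; simp, map_zero]
      exact (coeffs W).zero_mem
    · rw [← map_mul, ← map_mul,
        show b * (b * w * b) * b = 0 by rw [← mul_assoc b, ← mul_assoc b b, hb]; simp, map_zero]
      exact (coeffs W).zero_mem

section Card

variable [Finite R]

/-- polynomials of degree less than `N` inside `sat` -/
def trunc' (b c : R) (W : AddSubgroup R) (N : ℕ) : Type _ :=
  {f : PowerSeries R // f ∈ sat b c W ∧ ∀ n, N ≤ n → coeff n f = 0}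

instance (b c : R) (W : AddSubgroup R) (N : ℕ) : Finite (trunc' b c W N) := by
  refine Finite.of_injective (fun f : trunc' b c W N => fun n : Fin N => coeff (n : ℕ) f.1) ?_
  intro f g h
  refine Subtype.ext (PowerSeries.ext fun n => ?_)
  rcases lt_or_ge n N with hn | hn
  · exact congrFun h ⟨n, hn⟩
  · rw [f.2.2 n hn, g.2.2 n hn]

theorem card_trunc_le (b c : R) (W : AddSubgroup R) (N : ℕ) :
    Nat.card (trunc' b c W N) ≤ Nat.card (lim b c W) ^ N := by
  classical
  induction N with
  | zero =>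
    haveI : Subsingleton (trunc' b c W 0) := ⟨fun f g => Subtype.ext (PowerSeries.ext fun n => by
      rw [f.2.2 n n.zero_le, g.2.2 n n.zero_le])⟩
    rw [pow_zero]
    exact Finite.card_le_one_iff_subsingleton.2 inferInstance
  | succ N ih =>
    let ct : trunc' b c W (N + 1) → lim b c W := fun f => ⟨_, mem_lim.2 ⟨f.1, f.2.1, rfl⟩⟩
    let r : lim b c W → PowerSeries R := fun u =>
      if h : ∃ f, ct f = u then h.choose.1 else 0
    have hr : ∀ f, r (ct f) ∈ sat b c W ∧ (∀ n, N + 1 ≤ n → coeff n (r (ct f)) = 0) ∧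
        constantCoeff (r (ct f)) = constantCoeff f.1 := by
      intro f
      have h : ∃ g, ct g = ct f := ⟨f, rfl⟩
      simp only [r, dif_pos h]
      exact ⟨h.choose.2.1, h.choose.2.2, congrArg Subtype.val h.choose_spec⟩
    let q : trunc' b c W (N + 1) → PowerSeries R := fun f =>
      PowerSeries.mk fun n => coeff (n + 1) (f.1 - r (ct f))
    have hq : ∀ f, f.1 - r (ct f) = X * q f := by
      intro f
      conv_lhs => rw [eq_X_mul_shift_add_const (f.1 - r (ct f))]
      rw [show constantCoeff (f.1 - r (ct f)) = 0 by rw [map_sub, (hr f).2.2, sub_self],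
        map_zero, add_zero]
    let e : trunc' b c W (N + 1) → lim b c W × trunc' b c W N := fun f =>
      (ct f, ⟨q f, sat_of_X_mul (hq f ▸ (sat b c W).sub_mem f.2.1 (hr f).1), fun n hn => by
        simp only [q, coeff_mk, map_sub]
        rw [f.2.2 _ (Nat.succ_le_succ hn), (hr f).2.1 _ (Nat.succ_le_succ hn), sub_zero]⟩)
    have he : Function.Injective e := by
      intro f g h
      have h1 : ct f = ct g := congrArg Prod.fst h
      have h2 : q f = q g := congrArg (fun x => x.2.1) h
      have h3 := hq f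
      rw [h1, h2, ← hq g] at h3
      exact Subtype.ext (sub_left_injective h3)
    calc Nat.card (trunc' b c W (N + 1)) ≤ Nat.card (lim b c W × trunc' b c W N) :=
          Nat.card_le_card_of_injective e he
      _ ≤ _ := by
          rw [Nat.card_prod, pow_succ']
          exact Nat.mul_le_mul_left _ ih

theorem card_le_card_lim {b c : R} (hb : b * b = 0) (hc : c * c = 0) (W : AddSubgroup R) :
    Nat.card W ≤ Nat.card (lim b c W) := by
  classical
  refine le_of_pow_le_pow_add_two Nat.card_pos fun N => ?_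
  refine le_trans ?_ (card_trunc_le b c W (N + 2))
  let g : (Fin N → W) → PowerSeries R := fun w =>
    PowerSeries.mk fun n => if h : n < N then (w ⟨n, h⟩ : R) else 0
  have hg : ∀ w n, N ≤ n → coeff n (g w) = 0 := fun w n hn => by
    simp [g, not_lt.2 hn]
  let e : (Fin N → W) → trunc' b c W (N + 2) := fun w => ⟨phi b c (g w), by
    rw [mem_sat, psi_phi hb hc]
    refine X_mul_mem_coeffs (X_mul_mem_coeffs (X_mul_mem_coeffs (X_mul_mem_coeffs fun n => ?_)))
    simp only [g, coeff_mk]
    split_ifs with h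
    · exact (w ⟨n, h⟩).2
    · exact W.zero_mem, fun n hn => by
    obtain ⟨m, rfl⟩ := Nat.exists_eq_add_of_le hn
    rw [show N + 2 + m = N + m + 1 + 1 by omega, phi_eq]
    simp only [map_sub, map_add, coeff_succ_X_mul, coeff_C_mul, coeff_mul_C]
    rw [hg w (N + m) (by omega), hg w (N + m + 1) (by omega), hg w (N + m + 1 + 1) (by omega)]
    simp⟩
  have he : Function.Injective e := by
    intro w w' h
    have h1 := congrArg (fun f => psi b c f.1) h
    simp only [e, psi_phi hb hc] at h1
    funext i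
    refine Subtype.ext ?_
    have h2 := congrArg (coeff ((i : ℕ) + 1 + 1 + 1 + 1)) h1
    simpa [g, coeff_succ_X_mul] using h2
  calc Nat.card W ^ N = Nat.card (Fin N → W) := by simp [Nat.card_fun]
    _ ≤ _ := Nat.card_le_card_of_injective e he

/-- the limit moves `W` down any filtration -/
theorem card_inf_le_card_lim_inf {b : R} (hb : b * b = 0) (W S : AddSubgroup R)
    (hl : ∀ x ∈ S, b * x ∈ S) (hr : ∀ x ∈ S, x * b ∈ S) :
    Nat.card ↥(W ⊓ S) ≤ Nat.card ↥(lim b b W ⊓ S) := by
  refine (card_le_card_lim hb hb (W ⊓ S)).trans (Nat.card_le_card_of_injective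
    (AddSubgroup.inclusion (le_inf (lim_mono b b inf_le_left) (lim_le hb hb
      (fun w hw => hw.2) (fun w hw => S.sub_mem (hl w hw.2) (hr w hw.2))
      fun w hw => hr _ (hl w hw.2)))) (AddSubgroup.inclusion_injective _))

/-- if the limit is not deeper in the filtration then `W` is invariant -/
theorem invariant_of_card_eq {b : R} (hb : b * b = 0) (W : AddSubgroup R)
    (F : ℕ → AddSubgroup R) (hanti : ∀ i, F (i + 1) ≤ F i)
    (hl : ∀ i, ∀ x ∈ F i, b * x ∈ F (i + 1)) (hr : ∀ i, ∀ x ∈ F i, x * b ∈ F (i + 1))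
    {n : ℕ} (hn : F n = ⊥) (h0 : W ≤ F 0)
    (heq : ∀ i < n, Nat.card ↥(lim b b W ⊓ F i) ≤ Nat.card ↥(W ⊓ F i)) :
    ∀ w ∈ W, b * w - w * b ∈ W ∧ b * w * b ∈ W := by
  suffices key : ∀ j i, i + j = n → ∀ w ∈ W ⊓ F i,
      b * w - w * b ∈ W ⊓ F i ∧ b * w * b ∈ W ⊓ F i by
    intro w hw
    exact ⟨(key n 0 (by omega) w ⟨hw, h0 hw⟩).1.1, (key n 0 (by omega) w ⟨hw, h0 hw⟩).2.1⟩
  intro j
  induction j with
  | zero =>
    intro i hi w hw
    obtain rfl : i = n := hi
    have hw0 : w = 0 := by
      have h := hw.2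
      rw [hn] at h
      exact AddSubgroup.mem_bot.1 h
    subst hw0
    simp
  | succ j ih =>
    intro i hi w hw
    have ih' := ih (i + 1) (by omega)
    have heq' : lim b b W ⊓ F (i + 1) ≤ W ⊓ F (i + 1) := by
      have hle : W ⊓ F (i + 1) ≤ lim b b W ⊓ F (i + 1) := fun x hx =>
        ⟨mem_lim_of_fixed hx.1 (ih' x hx).1.1 (ih' x hx).2.1, hx.2⟩
      rcases Nat.lt_or_ge (i + 1) n with hlt | hge
      · exact le_of_eq (AddSubgroup.eq_of_le_of_card_ge hle (heq _ hlt)).symm
      · obtain rfl : i + 1 = n := by omega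
        rw [hn, inf_bot_eq]; exact bot_le
    have he : b * w * b ∈ F (i + 1) := hanti _ (hr _ _ (hl _ w hw.2))
    have he' : b * w * b ∈ W ⊓ F (i + 1) := heq' ⟨eps_mem_lim hb hw.1, he⟩
    have hd : b * w - w * b ∈ W ⊓ F (i + 1) :=
      heq' ⟨delta_mem_lim hb hw.1 he'.1, (F (i + 1)).sub_mem (hl _ w hw.2) (hr _ w hw.2)⟩
    exact ⟨⟨hd.1, hanti i hd.2⟩, he'.1, hanti i he'.2⟩

end Card

end Cfsg.Lib.QuadLimit
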