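import Cfsg.Agent.PLocal.QuadLimit.Lim

/-!
In a `p`-group of ring units, a quadratic offender that is deepest in the augmentation
filtration is normal in its normal closure.
-/

set_option autoImplicit false
set_option linter.unusedSectionVars false

namespace Cfsg.Lib.QuadLimit

open Subgroup
open scoped commutatorElement

variable {R : Type*} [Ring R] {G : Type*} [Group G] (ρ : G →* R)

/-- `A` acts quadratically -/
def Quad (A : Subgroup G) : Prop := ∀ a ∈ A, ∀ c ∈ A, (ρ a - 1) * (ρ c - 1) = 0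

theorem rho_inv_mul (g : G) : ρ g⁻¹ * ρ g = 1 := by rw [← map_mul, inv_mul_cancel, map_one]

theorem rho_mul_inv (g : G) : ρ g * ρ g⁻¹ = 1 := by rw [← map_mul, mul_inv_cancel, map_one]

theorem conj_sub_one (g a : G) : ρ (g * a * g⁻¹) - 1 = ρ g * (ρ a - 1) * ρ g⁻¹ := by
  rw [mul_sub, sub_mul, mul_one, rho_mul_inv, map_mul, map_mul]

theorem inv_eq_of_sq {g : G} (hg : (ρ g - 1) * (ρ g - 1) = 0) : ρ g⁻¹ = 1 - (ρ g - 1) := by
  have h : ρ g * (1 - (ρ g - 1)) = 1 := by
    calc ρ g * (1 - (ρ g - 1)) = (1 + (ρ g - 1)) * (1 - (ρ g - 1)) := by congr 1; abel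
      _ = 1 - (ρ g - 1) * (ρ g - 1) := by noncomm_ring
      _ = 1 := by rw [hg, sub_zero]
  calc ρ g⁻¹ = ρ g⁻¹ * (ρ g * (1 - (ρ g - 1))) := by rw [h, mul_one]
    _ = _ := by rw [← mul_assoc, rho_inv_mul, one_mul]

variable {ρ}

theorem Quad.map_mul {A : Subgroup G} (hA : Quad ρ A) {a c : G} (ha : a ∈ A) (hc : c ∈ A) :
    ρ (a * c) - 1 = (ρ a - 1) + (ρ c - 1) := by
  have h : (ρ a - 1) * (ρ c - 1) = 0 := hA a ha c hc
  have h' : ρ a * ρ c = ρ a + ρ c - 1 := by
    calc ρ a * ρ c = (ρ a - 1) * (ρ c - 1) + (ρ a + ρ c - 1) := by noncomm_ring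
      _ = _ := by rw [h, zero_add]
  rw [_root_.map_mul, h']; abel

theorem Quad.map_pow {A : Subgroup G} (hA : Quad ρ A) {a : G} (ha : a ∈ A) (n : ℕ) :
    ρ (a ^ n) - 1 = n • (ρ a - 1) := by
  induction n with
  | zero => simp
  | succ n ih => rw [pow_succ, hA.map_mul (A.pow_mem ha n) ha, ih, succ_nsmul]

theorem Quad.map_inv {A : Subgroup G} (hA : Quad ρ A) {a : G} (ha : a ∈ A) :
    ρ a⁻¹ - 1 = -(ρ a - 1) := by rw [inv_eq_of_sq ρ (hA a ha a ha)]; abel

/-- the additive group `A - 1` -/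
def Quad.logGroup {A : Subgroup G} (hA : Quad ρ A) : AddSubgroup R where
  carrier := {x | ∃ a ∈ A, ρ a - 1 = x}
  zero_mem' := ⟨1, A.one_mem, by simp⟩
  add_mem' := by
    rintro x y ⟨a, ha, rfl⟩ ⟨c, hc, rfl⟩
    exact ⟨a * c, A.mul_mem ha hc, hA.map_mul ha hc⟩
  neg_mem' := by
    rintro x ⟨a, ha, rfl⟩
    exact ⟨a⁻¹, A.inv_mem ha, hA.map_inv ha⟩

theorem Quad.mem_logGroup {A : Subgroup G} (hA : Quad ρ A) {x : R} :
    x ∈ hA.logGroup ↔ ∃ a ∈ A, ρ a - 1 = x := Iff.rfl

theorem Quad.card_logGroup {A : Subgroup G} (hA : Quad ρ A) (hρ : Function.Injective ρ) :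
    Nat.card hA.logGroup = Nat.card A := by
  refine (Nat.card_congr (Equiv.ofBijective
    (fun a : A => (⟨ρ a - 1, a, a.2, rfl⟩ : hA.logGroup)) ⟨fun a c h => ?_, ?_⟩)).symm
  · exact Subtype.ext (hρ (sub_left_injective (congrArg Subtype.val h)))
  · rintro ⟨_, a, ha, rfl⟩; exact ⟨⟨a, ha⟩, rfl⟩

theorem Quad.conj {A : Subgroup G} (hA : Quad ρ A) (g : G) :
    Quad ρ (A.map (MulAut.conj g).toMonoidHom) := by
  rintro _ ⟨a, ha, rfl⟩ _ ⟨c, hc, rfl⟩
  simp only [MulEquiv.coe_toMonoidHom, MulAut.conj_apply, conj_sub_one]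
  calc ρ g * (ρ a - 1) * ρ g⁻¹ * (ρ g * (ρ c - 1) * ρ g⁻¹)
      = ρ g * (ρ a - 1) * (ρ g⁻¹ * ρ g) * (ρ c - 1) * ρ g⁻¹ := by simp only [mul_assoc]
    _ = _ := by rw [rho_inv_mul, mul_one, mul_assoc (ρ g), hA a ha c hc, mul_zero, zero_mul]

/-- commutators of two quadratic groups normalising each other -/
theorem Quad.bracket {A C : Subgroup G} (hA : Quad ρ A) (hC : Quad ρ C)
    (hAC : A ≤ normalizer (C : Set G)) (hCA : C ≤ normalizer (A : Set G)) {x y : R}
    (hx : x ∈ hA.logGroup) (hy : y ∈ hC.logGroup) :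
    x * y - y * x ∈ hA.logGroup ∧ x * y - y * x ∈ hC.logGroup ∧ x * y * x = 0 := by
  obtain ⟨a, ha, rfl⟩ := hx
  obtain ⟨c, hc, rfl⟩ := hy
  have hzA : ⁅a, c⁆ ∈ A := by
    rw [commutatorElement_def, mul_assoc, mul_assoc, ← mul_assoc c]
    exact A.mul_mem ha ((mem_normalizer_iff.1 (hCA hc) _).1 (A.inv_mem ha))
  have hzC : ⁅a, c⁆ ∈ C :=
    C.mul_mem ((mem_normalizer_iff.1 (hAC ha) _).1 hc) (C.inv_mem hc)
  have e : ρ a * ρ c = ρ ⁅a, c⁆ * (ρ c * ρ a) := by
    rw [← _root_.map_mul, ← _root_.map_mul, ← _root_.map_mul, commutatorElement_def]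
    congr 1; group
  have h1 : (ρ ⁅a, c⁆ - 1) * (ρ a - 1) = 0 := hA _ hzA _ ha
  have h2 : (ρ ⁅a, c⁆ - 1) * (ρ c - 1) = 0 := hC _ hzC _ hc
  have h3 : (ρ a - 1) * (ρ ⁅a, c⁆ - 1) = 0 := hA _ ha _ hzA
  have hzeta : (ρ a - 1) * (ρ c - 1) - (ρ c - 1) * (ρ a - 1) = ρ ⁅a, c⁆ - 1 := by
    calc (ρ a - 1) * (ρ c - 1) - (ρ c - 1) * (ρ a - 1) = ρ a * ρ c - ρ c * ρ a := by noncomm_ring
      _ = (ρ ⁅a, c⁆ - 1) * (ρ c - 1) * (ρ a - 1) + (ρ ⁅a, c⁆ - 1) * (ρ c - 1)
          + (ρ ⁅a, c⁆ - 1) * (ρ a - 1) + (ρ ⁅a, c⁆ - 1) := by rw [e]; noncomm_ring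
      _ = _ := by rw [h1, h2]; simp
  refine ⟨⟨_, hzA, hzeta.symm⟩, ⟨_, hzC, hzeta.symm⟩, ?_⟩
  calc (ρ a - 1) * (ρ c - 1) * (ρ a - 1)
      = (ρ a - 1) * (ρ a - 1) * (ρ c - 1)
        - (ρ a - 1) * ((ρ a - 1) * (ρ c - 1) - (ρ c - 1) * (ρ a - 1)) := by noncomm_ring
    _ = _ := by rw [hzeta, h3, hA _ ha _ ha]; simp

/-- square zero sums from three mutually normalising quadratic groups come from the group -/
theorem one_add_mem_range {A C E : Subgroup G} (hA : Quad ρ A) (hC : Quad ρ C) (hE : Quad ρ E)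
    (k : ℕ) (hk : 2 * (k : R) = 1)
    (hAC : A ≤ normalizer (C : Set G)) (hCA : C ≤ normalizer (A : Set G))
    (hAE : A ≤ normalizer (E : Set G)) (hEA : E ≤ normalizer (A : Set G))
    (hCE : C ≤ normalizer (E : Set G)) (hEC : E ≤ normalizer (C : Set G))
    {x y z : R} (hx : x ∈ hA.logGroup) (hy : y ∈ hC.logGroup) (hz : z ∈ hE.logGroup)
    (h0 : (x + y + z) * (x + y + z) = 0) : ∃ g : G, ρ g - 1 = x + y + z := by
  obtain ⟨bxy, -, xyx⟩ := hA.bracket hC hAC hCA hx hy
  obtain ⟨bxz, -, xzx⟩ := hA.bracket hE hAE hEA hx hz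
  obtain ⟨bzy, bzyC, zyz⟩ := hE.bracket hC hEC hCE hz hy
  obtain ⟨-, -, yzy⟩ := hC.bracket hE hCE hEC hy hz
  have hxx : x * x = 0 := by
    obtain ⟨a, ha, rfl⟩ := hx; exact hA a ha a ha
  have hyy : y * y = 0 := by
    obtain ⟨c, hc, rfl⟩ := hy; exact hC c hc c hc
  have hzz : z * z = 0 := by
    obtain ⟨c, hc, rfl⟩ := hz; exact hE c hc c hc
  -- the element with image `1 + Y + Y^2/2`
  obtain ⟨t, htC, ht⟩ := bzyC
  obtain ⟨t', htE', ht'⟩ := bzy
  obtain ⟨c, hc, hyc⟩ := hy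
  obtain ⟨e, he, hze⟩ := hz
  have hmt : (1 + y) * ((1 + k * (z * y - y * z)) * (1 + z)) =
      1 + (y + z) + k * ((y + z) * (y + z)) := by
    have h1 : y * (z * y - y * z) = 0 := by rw [← ht, ← hyc]; exact hC c hc t htC
    have h2 : (z * y - y * z) * z = 0 := by rw [← ht', ← hze]; exact hE t' htE' e he
    have h3 : y * (k : R) = k * y := (Nat.cast_comm k y).symm
    have h4 : y * z = (2 * k) * (y * z) := by rw [hk, one_mul]
    calc (1 + y) * ((1 + k * (z * y - y * z)) * (1 + z))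
        = 1 + y + z + y * z + k * (z * y - y * z) + k * ((z * y - y * z) * z)
          + y * (k * (z * y - y * z)) + y * (k * ((z * y - y * z) * z)) := by noncomm_ring
      _ = 1 + y + z + (2 * k) * (y * z) + k * (z * y - y * z) := by
          rw [h2, ← mul_assoc y (k : R) (z * y - y * z), h3, mul_assoc (k : R) y, h1]
          simp [← h4]
      _ = 1 + (y + z) + k * (y * z + z * y) := by noncomm_ring
      _ = _ := by
          rw [show (y + z) * (y + z) = y * y + z * z + (y * z + z * y) by noncomm_ring, hyy, hzz,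
            add_zero, zero_add]
  have hY3 : (y + z) * (y + z) * (y + z) = 0 := by
    calc (y + z) * (y + z) * (y + z) = y * y * y + y * y * z + y * z * y + y * (z * z)
          + z * (y * y) + z * y * z + z * z * y + z * z * z := by noncomm_ring
      _ = 0 := by rw [hyy, hzz, yzy, zyz]; simp
  -- the element with image `1 + x + [Y, x]/2`
  have hb : (y + z) * x - x * (y + z) ∈ hA.logGroup := by
    have : (y + z) * x - x * (y + z) = -(x * y - y * x) + -(x * z - z * x) := by noncomm_ring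
    rw [this]
    exact hA.logGroup.add_mem (hA.logGroup.neg_mem bxy) (hA.logGroup.neg_mem bxz)
  obtain ⟨a', ha', hxa⟩ := hA.logGroup.add_mem hx (hA.logGroup.nsmul_mem hb k)
  rw [nsmul_eq_mul] at hxa
  refine ⟨a' * (c * (t ^ k * e)), ?_⟩
  have hρ : ρ (a' * (c * (t ^ k * e))) =
      (1 + (x + k * ((y + z) * x - x * (y + z)))) * (1 + (y + z) + k * ((y + z) * (y + z))) := by
    rw [_root_.map_mul, _root_.map_mul, _root_.map_mul, ← hmt, ← hxa, ← ht, ← hyc, ← hze,
      show (k : R) * (ρ t - 1) = ρ (t ^ k) - 1 by rw [← nsmul_eq_mul, hC.map_pow htC]]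
    simp
  rw [hρ]
  have hxYx : x * (y + z) * x = 0 := by rw [mul_add, add_mul, xyx, xzx, add_zero]
  clear hρ hxa hmt hb ht ht' hyc hze bxy bxz
  generalize hY : y + z = Y at hY3 hxYx ⊢
  rw [add_assoc x y z, hY] at h0 ⊢
  have e0 : x * Y + Y * x + Y * Y = 0 := by
    rw [← h0]; rw [show (x + Y) * (x + Y) = x * x + (x * Y + Y * x + Y * Y) by noncomm_ring, hxx,
      zero_add]
  have e1 : x * (Y * Y) = 0 := by
    calc x * (Y * Y) = x * (x * Y + Y * x + Y * Y) - x * x * Y - x * Y * x := by noncomm_ring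
      _ = 0 := by rw [e0, hxx, hxYx]; simp
  have e2 : Y * x * Y = 0 := by
    calc Y * x * Y = (x * Y + Y * x + Y * Y) * Y - x * (Y * Y) - Y * Y * Y := by noncomm_ring
      _ = 0 := by rw [e0, e1, hY3]; simp
  have c1 : ∀ u : R, u * (k : R) = k * u := fun u => (Nat.cast_comm k u).symm
  have e3 : (Y * x - x * Y) * (Y * Y) = 0 := by
    calc (Y * x - x * Y) * (Y * Y) = Y * x * Y * Y - x * (Y * Y) * Y := by noncomm_ring
      _ = 0 := by rw [e2, e1]; simp
  calc (1 + (x + k * (Y * x - x * Y))) * (1 + Y + k * (Y * Y)) - 1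
      = x + Y + (k * (x * Y + Y * x + Y * Y) + (1 - 2 * k) * (x * Y)
          + k * (Y * x * Y) - k * (x * (Y * Y)) + x * (k * (Y * Y))
          + k * ((Y * x - x * Y) * (k * (Y * Y)))) := by noncomm_ring
    _ = _ := by
      rw [e0, hk, ← mul_assoc x (k : R), c1 x, mul_assoc (k : R) x, e1,
        ← mul_assoc (Y * x - x * Y) (k : R), c1 (Y * x - x * Y), mul_assoc (k : R) (Y * x - x * Y),
        e3, e2]
      simp

section Filtration

variable (ρ) in
/-- powers of the augmentation -/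
def filt : ℕ → AddSubgroup R
  | 0 => AddSubgroup.closure {x | ∃ g, ρ g - 1 = x}
  | i + 1 => AddSubgroup.closure {x | ∃ g, ∃ y ∈ filt i, (ρ g - 1) * y = x}

theorem sub_one_mem_filt (g : G) : ρ g - 1 ∈ filt ρ 0 := AddSubgroup.subset_closure ⟨g, rfl⟩

theorem left_mem_filt {i : ℕ} (g : G) {x : R} (hx : x ∈ filt ρ i) :
    (ρ g - 1) * x ∈ filt ρ (i + 1) := AddSubgroup.subset_closure ⟨g, x, hx, rfl⟩

theorem right_mem_filt {i : ℕ} (g : G) {x : R} (hx : x ∈ filt ρ i) :
    x * (ρ g - 1) ∈ filt ρ (i + 1) := by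
  induction i generalizing x with
  | zero =>
    rw [filt] at hx
    induction hx using AddSubgroup.closure_induction with
    | mem y hy => obtain ⟨h, rfl⟩ := hy; exact left_mem_filt h (sub_one_mem_filt g)
    | zero => simp
    | add y z _ _ hy hz => rw [add_mul]; exact AddSubgroup.add_mem _ hy hz
    | neg y _ hy => rw [neg_mul]; exact AddSubgroup.neg_mem _ hy
  | succ i ih =>
    rw [filt] at hx
    induction hx using AddSubgroup.closure_induction with
    | mem y hy =>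
      obtain ⟨h, z, hz, rfl⟩ := hy
      rw [mul_assoc]; exact left_mem_filt h (ih hz)
    | zero => simp
    | add y z _ _ hy hz => rw [add_mul]; exact AddSubgroup.add_mem _ hy hz
    | neg y _ hy => rw [neg_mul]; exact AddSubgroup.neg_mem _ hy

theorem filt_succ_le (i : ℕ) : filt ρ (i + 1) ≤ filt ρ i := by
  induction i with
  | zero =>
    rw [show filt ρ (0 + 1) = AddSubgroup.closure {x | ∃ g, ∃ y ∈ filt ρ 0, (ρ g - 1) * y = x}
      from rfl, AddSubgroup.closure_le]
    rintro _ ⟨g, y, hy, rfl⟩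
    show (ρ g - 1) * y ∈ filt ρ 0
    rw [filt] at hy
    induction hy using AddSubgroup.closure_induction with
    | mem z hz =>
      obtain ⟨h, rfl⟩ := hz
      rw [show (ρ g - 1) * (ρ h - 1) = (ρ (g * h) - 1) - (ρ g - 1) - (ρ h - 1) by
        rw [_root_.map_mul]; noncomm_ring]
      exact AddSubgroup.sub_mem _ (AddSubgroup.sub_mem _ (sub_one_mem_filt _) (sub_one_mem_filt _))
        (sub_one_mem_filt _)
    | zero => simp
    | add u v _ _ hu hv => rw [mul_add]; exact AddSubgroup.add_mem _ hu hv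
    | neg u _ hu => rw [mul_neg]; exact AddSubgroup.neg_mem _ hu
  | succ i ih =>
    refine AddSubgroup.closure_mono ?_
    rintro _ ⟨g, y, hy, rfl⟩
    exact ⟨g, y, ih hy, rfl⟩

theorem conj_mem_filt {i : ℕ} (g : G) {x : R} (hx : x ∈ filt ρ i) :
    ρ g * x * ρ g⁻¹ ∈ filt ρ i := by
  have h1 : ρ g * x ∈ filt ρ i := by
    rw [show ρ g * x = x + (ρ g - 1) * x by noncomm_ring]
    exact AddSubgroup.add_mem _ hx (filt_succ_le i (left_mem_filt g hx))
  rw [show ρ g * x * ρ g⁻¹ = ρ g * x + ρ g * x * (ρ g⁻¹ - 1) by noncomm_ring]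
  exact AddSubgroup.add_mem _ h1 (filt_succ_le i (right_mem_filt _ h1))

variable (ρ) in
/-- iterated fixed points of left multiplication -/
def socle : ℕ → AddSubgroup R
  | 0 => ⊥
  | j + 1 =>
    { carrier := {x | ∀ g, (ρ g - 1) * x ∈ socle j}
      zero_mem' := fun g => by simp
      add_mem' := fun ha hb g => by rw [mul_add]; exact (socle j).add_mem (ha g) (hb g)
      neg_mem' := fun ha g => by rw [mul_neg]; exact (socle j).neg_mem (ha g) }

theorem exists_filt_eq_bot [Finite R] [Finite G] {p : ℕ} [Fact p.Prime] (hG : IsPGroup p G)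
    (hp : ∀ x : R, p • x = 0) : ∃ n, filt ρ n = ⊥ := by
  classical
  let K : ℕ → AddSubgroup R := socle ρ
  have hKs : ∀ j, ∀ x, x ∈ K (j + 1) ↔ ∀ g, (ρ g - 1) * x ∈ K j := fun j x => Iff.rfl
  have hmono : ∀ j, K j ≤ K (j + 1) := by
    intro j
    induction j with
    | zero => exact bot_le
    | succ j ih => exact fun x hx g => ih (hx g)
  have hstrict : ∀ j, K j ≠ ⊤ → K j < K (j + 1) := by
    intro j hj
    refine lt_of_le_of_ne (hmono j) fun heq => hj ?_
    have hst : ∀ g, ∀ x ∈ K j, ρ g * x ∈ K j := by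
      intro g x hx
      rw [show ρ g * x = x + (ρ g - 1) * x by noncomm_ring]
      exact (K j).add_mem hx ((hKs j x).1 (hmono j hx) g)
    letI : MulAction G (R ⧸ K j) :=
      { smul := fun g => QuotientAddGroup.map (K j) (K j) (AddMonoidHom.mulLeft (ρ g)) (hst g)
        one_smul := fun q => by
          induction q using QuotientAddGroup.induction_on with
          | H x =>
            show ((ρ 1 * x : R) : R ⧸ K j) = _
            rw [map_one, one_mul]
        mul_smul := fun g h q => by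
          induction q using QuotientAddGroup.induction_on with
          | H x =>
            show ((ρ (g * h) * x : R) : R ⧸ K j) = ((ρ g * (ρ h * x) : R) : R ⧸ K j)
            rw [_root_.map_mul, mul_assoc] }
    by_contra hne
    have hcard : p ∣ Nat.card (R ⧸ K j) := by
      obtain ⟨x, hx⟩ : ∃ x, x ∉ K j := by
        by_contra h; push_neg at h; exact hne (eq_top_iff.2 fun x _ => h x)
      have h1 : addOrderOf ((x : R) : R ⧸ K j) = p :=
        addOrderOf_eq_prime (by rw [← QuotientAddGroup.mk_nsmul, hp]; rfl)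
          fun h => hx ((QuotientAddGroup.eq_zero_iff x).1 h)
      rw [← h1]
      exact addOrderOf_dvd_natCard _
    have h0 : (0 : R ⧸ K j) ∈ MulAction.fixedPoints G (R ⧸ K j) := fun g => map_zero
      (QuotientAddGroup.map (K j) (K j) (AddMonoidHom.mulLeft (ρ g)) (hst g))
    obtain ⟨q, hq, hne0⟩ := hG.exists_fixed_point_of_prime_dvd_card_of_fixed_point
      (R ⧸ K j) hcard h0
    induction q using QuotientAddGroup.induction_on with
    | H x =>
      have hx : x ∈ K (j + 1) := fun g => by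
        have h2 : ((ρ g * x : R) : R ⧸ K j) = (x : R ⧸ K j) := hq g
        rw [QuotientAddGroup.eq_iff_sub_mem] at h2
        rwa [sub_mul, one_mul]
      rw [← heq] at hx
      exact hne0 ((QuotientAddGroup.eq_zero_iff x).2 hx).symm
  have htop : ∀ j, K j = ⊤ ∨ j + 1 ≤ Nat.card (K j) := by
    intro j
    induction j with
    | zero => exact Or.inr Nat.card_pos
    | succ j ih =>
      by_cases hj : K j = ⊤
      · exact Or.inl (top_le_iff.1 (hj ▸ hmono j))
      · refine Or.inr ?_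
        have h1 := ih.resolve_left hj
        have h2 : Nat.card (K j) < Nat.card (K (j + 1)) :=
          Set.Finite.card_lt_card (s := (K j : Set R)) (t := (K (j + 1) : Set R)) (Set.toFinite _)
            (SetLike.coe_ssubset_coe.2 (hstrict j hj))
        omega
  set N := Nat.card R
  have hN : K N = ⊤ := (htop N).resolve_right fun h => by
    have h1 : Nat.card (K N) ≤ N := Nat.card_le_card_of_injective _ Subtype.val_injective
    omega
  refine ⟨N, le_bot_iff.1 fun x hx => ?_⟩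
  have key : ∀ i m, ∀ y ∈ K (m + (i + 1)), ∀ z ∈ filt ρ i, z * y ∈ K m := by
    intro i
    induction i with
    | zero =>
      intro m y hy z hz
      rw [filt] at hz
      induction hz using AddSubgroup.closure_induction with
      | mem u hu => obtain ⟨g, rfl⟩ := hu; exact hy g
      | zero => rw [zero_mul]; exact (K m).zero_mem
      | add u v _ _ hu hv => rw [add_mul]; exact (K m).add_mem hu hv
      | neg u _ hu => rw [neg_mul]; exact (K m).neg_mem hu
    | succ i ih =>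
      intro m y hy z hz
      rw [filt] at hz
      induction hz using AddSubgroup.closure_induction with
      | mem u hu =>
        obtain ⟨g, w, hw, rfl⟩ := hu
        rw [mul_assoc]
        exact (hKs m _).1 (ih (m + 1) y (by rwa [show m + 1 + (i + 1) = m + (i + 1 + 1) by omega]) w hw) g
      | zero => rw [zero_mul]; exact (K m).zero_mem
      | add u v _ _ hu hv => rw [add_mul]; exact (K m).add_mem hu hv
      | neg u _ hu => rw [neg_mul]; exact (K m).neg_mem hu
  have h1 : (1 : R) ∈ K (0 + (N + 1)) := by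
    rw [zero_add]; exact hmono N (hN ▸ AddSubgroup.mem_top _)
  simpa [K, socle] using key N 0 1 h1 x hx

end Filtration

/-- the part of `S` killed by `A - 1` -/
def annIn (ρ : G →* R) (S : AddSubgroup R) (A : Subgroup G) : AddSubgroup R where
  carrier := {x | x ∈ S ∧ ∀ a ∈ A, (ρ a - 1) * x = 0}
  zero_mem' := ⟨S.zero_mem, fun a _ => mul_zero _⟩
  add_mem' hx hy := ⟨S.add_mem hx.1 hy.1, fun a ha => by rw [mul_add, hx.2 a ha, hy.2 a ha, add_zero]⟩
  neg_mem' hx := ⟨S.neg_mem hx.1, fun a ha => by rw [mul_neg, hx.2 a ha, neg_zero]⟩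

variable [Finite R] [Finite G]

/-- depth of `A` in the filtration -/
noncomputable def depth (ρ : G →* R) (n : ℕ) (A : Subgroup G) : ℕ :=
  ∑ i ∈ Finset.range n, Nat.card {a : A // ρ a - 1 ∈ filt ρ i}

/-- a nontrivial quadratic group with `|A| |ann A| ≥ t` -/
def Off (ρ : G →* R) (S : AddSubgroup R) (t : ℕ) (A : Subgroup G) : Prop :=
  (Quad ρ A ∧ t ≤ Nat.card A * Nat.card (annIn ρ S A)) ∧ 1 < Nat.card A

theorem Off.conj {S : AddSubgroup R} (hS : ∀ (r : R), ∀ x ∈ S, r * x ∈ S) {t : ℕ} {A : Subgroup G}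
    (hA : Off ρ S t A) (g : G) : Off ρ S t (A.map (MulAut.conj g).toMonoidHom) := by
  have hcard := Nat.card_congr (A.equivMapOfInjective (MulAut.conj g).toMonoidHom (MulAut.conj g).injective).toEquiv
  refine ⟨⟨hA.1.1.conj g, hA.1.2.trans (Nat.mul_le_mul (le_of_eq hcard) ?_)⟩, hcard ▸ hA.2⟩
  · refine Nat.card_le_card_of_injective (fun x => ⟨ρ g * x.1, hS _ _ x.2.1, ?_⟩) fun x y h => ?_
    · rintro _ ⟨a, ha, rfl⟩
      simp only [MulEquiv.coe_toMonoidHom, MulAut.conj_apply, conj_sub_one]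
      calc ρ g * (ρ a - 1) * ρ g⁻¹ * (ρ g * x.1) = ρ g * ((ρ a - 1) * ((ρ g⁻¹ * ρ g) * x.1)) := by
            simp only [mul_assoc]
        _ = 0 := by rw [rho_inv_mul, one_mul, x.2.2 a ha, mul_zero]
    · have := congrArg (fun z => ρ g⁻¹ * z) (congrArg Subtype.val h)
      simp only [← mul_assoc, rho_inv_mul, one_mul] at this
      exact Subtype.ext this

theorem depth_conj (n : ℕ) (A : Subgroup G) (g : G) :
    depth ρ n A ≤ depth ρ n (A.map (MulAut.conj g).toMonoidHom) := by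
  refine Finset.sum_le_sum fun i _ => Nat.card_le_card_of_injective
    (fun x => ⟨⟨g * x.1 * g⁻¹, x.1, x.1.2, rfl⟩, ?_⟩) fun x y h => ?_
  · rw [conj_sub_one]; exact conj_mem_filt g x.2
  · have := congrArg (fun z => (z.1 : G)) h
    exact Subtype.ext (Subtype.ext (mul_left_cancel (mul_right_cancel this)))

theorem Quad.card_inf_filt {A : Subgroup G} (hA : Quad ρ A) (hρ : Function.Injective ρ) (i : ℕ) :
    Nat.card {a : A // ρ a - 1 ∈ filt ρ i} = Nat.card ↥(hA.logGroup ⊓ filt ρ i) := by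
  refine Nat.card_congr (Equiv.ofBijective (fun a => ⟨ρ a.1 - 1, ⟨a.1, a.1.2, rfl⟩, a.2⟩)
    ⟨fun a c h => Subtype.ext (Subtype.ext (hρ (sub_left_injective (congrArg Subtype.val h)))), ?_⟩)
  rintro ⟨_, ⟨a, ha, rfl⟩, h⟩; exact ⟨⟨⟨a, ha⟩, h⟩, rfl⟩

/-- one step: a deepest offender is normalised by every quadratic element compatible with it -/
theorem conj_mem_of_deepest (hρ : Function.Injective ρ) (k : ℕ) (hk : 2 * (k : R) = 1)
    {S : AddSubgroup R} (hS : ∀ (r : R), ∀ x ∈ S, r * x ∈ S) {t n : ℕ} (hn : filt ρ n = ⊥)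
    {A : Subgroup G} (hA : Off ρ S t A) (hmax : ∀ A', Off ρ S t A' → depth ρ n A' ≤ depth ρ n A)
    {b : G} (hb : (ρ b - 1) * (ρ b - 1) = 0)
    (hnorm : ∀ u ∈ ({1, b, b⁻¹} : Set G), ∀ v ∈ ({1, b, b⁻¹} : Set G),
      A.map (MulAut.conj u).toMonoidHom ≤
        normalizer ((A.map (MulAut.conj v).toMonoidHom : Subgroup G) : Set G)) :
    ∀ a ∈ A, b * a * b⁻¹ ∈ A := by
  set β := ρ b - 1 with hβdef
  set W := hA.1.1.logGroup with hW
  set Ap := A.map (MulAut.conj b).toMonoidHom with hAp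
  set Am := A.map (MulAut.conj b⁻¹).toMonoidHom with hAm
  have hA1 : A.map (MulAut.conj (1 : G)).toMonoidHom = A := by
    ext x
    constructor
    · rintro ⟨a, ha, rfl⟩; simpa using ha
    · exact fun hx => ⟨x, hx, by simp⟩
  have hqp : Quad ρ Ap := hA.1.1.conj b
  have hqm : Quad ρ Am := hA.1.1.conj b⁻¹
  have hρb : ρ b = 1 + β := by rw [hβdef]; abel
  have hρbi : ρ b⁻¹ = 1 - β := inv_eq_of_sq ρ hb
  set L := W ⊔ hqp.logGroup ⊔ hqm.logGroup with hL
  have hsplit : ∀ w ∈ W, w + (β * w - w * β) - β * w * β ∈ hqp.logGroup ∧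
      w - (β * w - w * β) - β * w * β ∈ hqm.logGroup := by
    rintro w ⟨a, ha, rfl⟩
    refine ⟨⟨b * a * b⁻¹, ⟨a, ha, rfl⟩, ?_⟩, ⟨b⁻¹ * a * b⁻¹⁻¹, ⟨a, ha, rfl⟩, ?_⟩⟩
    · rw [conj_sub_one, hρbi, hρb]; noncomm_ring
    · rw [conj_sub_one, inv_inv, hρbi, hρb]; noncomm_ring
  have hWL : W ≤ L := le_sup_left.trans le_sup_left
  have hδε : ∀ w ∈ W, β * w - w * β ∈ L ∧ β * w * β ∈ L := by
    intro w hw
    have hp : w + (β * w - w * β) - β * w * β ∈ L :=
      AddSubgroup.mem_sup_left (AddSubgroup.mem_sup_right (hsplit w hw).1)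
    have hm : w - (β * w - w * β) - β * w * β ∈ L := AddSubgroup.mem_sup_right (hsplit w hw).2
    constructor
    · have h := L.nsmul_mem (L.sub_mem hp hm) k
      rw [nsmul_eq_mul] at h
      convert h using 1
      calc β * w - w * β = (2 * (k : R)) * (β * w - w * β) := by rw [hk, one_mul]
        _ = _ := by noncomm_ring
    · have h := L.sub_mem (hWL hw) (L.nsmul_mem (L.add_mem hp hm) k)
      rw [nsmul_eq_mul] at h
      convert h using 1
      calc β * w * β = w - ((2 * (k : R)) * w - (2 * (k : R)) * (β * w * β)) := by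
            rw [hk, one_mul, one_mul]; abel
        _ = _ := by noncomm_ring
  set W' := lim β β W with hW'
  have hW'L : W' ≤ L :=
    lim_le hb hb (fun w hw => hWL hw) (fun w hw => (hδε w hw).1) fun w hw => (hδε w hw).2
  have hsq : ∀ u ∈ W', ∀ v ∈ W', u * v = 0 := fun u hu v hv =>
    mul_eq_zero_of_mem_lim hb hb (fun w hw w' hw' => by
      obtain ⟨a, ha, rfl⟩ := hw; obtain ⟨c, hc, rfl⟩ := hw'; exact hA.1.1 a ha c hc) hu hv
  have hex : ∀ u ∈ W', ∃ g, ρ g - 1 = u := by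
    intro u hu
    obtain ⟨q, hq, z, hz, rfl⟩ := AddSubgroup.mem_sup.1 (hW'L hu)
    obtain ⟨x, hx, y, hy, rfl⟩ := AddSubgroup.mem_sup.1 hq
    have h1 := hnorm 1 (by simp) b (by simp)
    have h2 := hnorm b (by simp) 1 (by simp)
    have h3 := hnorm 1 (by simp) b⁻¹ (by simp)
    have h4 := hnorm b⁻¹ (by simp) 1 (by simp)
    rw [hA1] at h1 h2 h3 h4
    exact one_add_mem_range hA.1.1 hqp hqm k hk h1 h2 h3 h4 (hnorm b (by simp) b⁻¹ (by simp))
      (hnorm b⁻¹ (by simp) b (by simp)) hx hy hz (hsq _ hu _ hu)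
  let A' : Subgroup G :=
    { carrier := {g | ρ g - 1 ∈ W'}
      one_mem' := by simp
      mul_mem' := fun {g h} hg hh => by
        show ρ (g * h) - 1 ∈ W'
        rw [show ρ (g * h) - 1 = (ρ g - 1) * (ρ h - 1) + ((ρ g - 1) + (ρ h - 1)) by
          rw [_root_.map_mul]; noncomm_ring, hsq _ hg _ hh, zero_add]
        exact W'.add_mem hg hh
      inv_mem' := fun {g} hg => by
        show ρ g⁻¹ - 1 ∈ W'
        rw [inv_eq_of_sq ρ (hsq _ hg _ hg)]
        simpa using W'.neg_mem hg }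
  have hqA' : Quad ρ A' := fun a ha c hc => hsq _ ha _ hc
  have hlog : hqA'.logGroup = W' := by
    ext x
    refine ⟨?_, fun hx => ?_⟩
    · rintro ⟨a, ha, rfl⟩; exact ha
    · obtain ⟨g, rfl⟩ := hex x hx; exact ⟨g, hx, rfl⟩
  have hoff : Off ρ S t A' := by
    have hAA' : Nat.card A ≤ Nat.card A' := by
      rw [← hA.1.1.card_logGroup hρ, ← hqA'.card_logGroup hρ, hlog]
      exact card_le_card_lim hb hb W
    refine ⟨⟨hqA', hA.1.2.trans (Nat.mul_le_mul hAA' ?_)⟩, hA.2.trans_le hAA'⟩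
    · refine (card_le_card_lim hb (zero_mul 0) (annIn ρ S A)).trans
        (Nat.card_le_card_of_injective (AddSubgroup.inclusion
          (show lim β 0 (annIn ρ S A) ≤ annIn ρ S A' from fun x hx => ⟨?_, fun a ha => ?_⟩))
          (AddSubgroup.inclusion_injective _))
      · exact lim_le hb (zero_mul 0) (L := S) (fun (w : R) (hw : w ∈ annIn ρ S A) => hw.1)
          (fun w hw => by simpa using hS β w hw.1) (fun w _ => by simp) hx
      · exact mul_eq_zero_of_mem_lim hb (zero_mul 0) (fun w hw w' hw' => by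
          obtain ⟨c, hc, rfl⟩ := hw; exact hw'.2 c hc) ha hx
  have hfl : ∀ i, ∀ x ∈ filt ρ i, β * x ∈ filt ρ (i + 1) := fun i x hx => left_mem_filt b hx
  have hfr : ∀ i, ∀ x ∈ filt ρ i, x * β ∈ filt ρ (i + 1) := fun i x hx => right_mem_filt b hx
  have hle : ∀ i ∈ Finset.range n, Nat.card {a : A // ρ a - 1 ∈ filt ρ i} ≤
      Nat.card {a : A' // ρ a - 1 ∈ filt ρ i} := by
    intro i _
    rw [hA.1.1.card_inf_filt hρ, hqA'.card_inf_filt hρ, hlog]
    exact card_inf_le_card_lim_inf hb W _ (fun x hx => filt_succ_le i (hfl i x hx))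
      fun x hx => filt_succ_le i (hfr i x hx)
  have heq : ∀ i < n, Nat.card ↥(W' ⊓ filt ρ i) ≤ Nat.card ↥(W ⊓ filt ρ i) := by
    intro i hi
    by_contra hlt
    rw [not_le] at hlt
    have : depth ρ n A < depth ρ n A' := Finset.sum_lt_sum hle
      ⟨i, Finset.mem_range.2 hi, by rw [hA.1.1.card_inf_filt hρ, hqA'.card_inf_filt hρ, hlog]; exact hlt⟩
    exact absurd (hmax A' hoff) (not_le.2 this)
  have hinv := invariant_of_card_eq hb W (filt ρ) filt_succ_le hfl hfr hn
    (fun x hx => by obtain ⟨a, _, rfl⟩ := hx; exact sub_one_mem_filt a) heq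
  intro a ha
  obtain ⟨hd, he⟩ := hinv (ρ a - 1) ⟨a, ha, rfl⟩
  have hmem : ρ (b * a * b⁻¹) - 1 ∈ W := by
    rw [conj_sub_one, hρbi, hρb,
      show (1 + β) * (ρ a - 1) * (1 - β) = (ρ a - 1) + (β * (ρ a - 1) - (ρ a - 1) * β)
        - β * (ρ a - 1) * β by noncomm_ring]
    exact W.sub_mem (W.add_mem ⟨a, ha, rfl⟩ hd) he
  obtain ⟨c, hc, hc'⟩ := hmem
  exact hρ (sub_left_injective hc') ▸ hc

/-- a deepest offender is normal in its normal closure in every overgroup -/
theorem normal_in_closure (hρ : Function.Injective ρ) {p : ℕ} [Fact p.Prime] (hG : IsPGroup p G)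
    (k : ℕ) (hk : 2 * (k : R) = 1)
    {S : AddSubgroup R} (hS : ∀ (r : R), ∀ x ∈ S, r * x ∈ S) {t n : ℕ} (hn : filt ρ n = ⊥) :
    ∀ H A : Subgroup G, A ≤ H → Off ρ S t A →
      (∀ A', Off ρ S t A' → depth ρ n A' ≤ depth ρ n A) →
      closure {x | ∃ h ∈ H, ∃ a ∈ A, x = h * a * h⁻¹} ≤ normalizer (A : Set G) := by
  intro H
  induction H using WellFoundedLT.induction with
  | ind H ih =>
    intro A hAH hA hmax
    rcases eq_or_lt_of_le hAH with rfl | hlt
    · refine le_trans ((closure_le _).2 ?_) (le_normalizer (H := A))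
      rintro _ ⟨h, hh, a, ha, rfl⟩
      exact A.mul_mem (A.mul_mem hh ha) (A.inv_mem hh)
    obtain ⟨M, hM⟩ := (Set.toFinite {M : Subgroup G | A ≤ M ∧ M < H}).exists_maximal
      ⟨A, le_rfl, hlt⟩
    obtain ⟨⟨hAM, hMH⟩, hMmax⟩ := hM
    have hHM : H ≤ normalizer (M : Set G) := by
      haveI : Group.IsNilpotent H := (hG.to_subgroup H).isNilpotent
      have hne : M.subgroupOf H < ⊤ := lt_top_iff_ne_top.2 fun h =>
        hMH.not_ge (subgroupOf_eq_top.1 h)
      obtain ⟨x, hxN, hxM⟩ := SetLike.exists_of_lt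
        (Group.normalizerCondition_of_isNilpotent (M.subgroupOf H) hne)
      by_contra hcon
      have hle : M ≤ normalizer (M : Set G) ⊓ H := le_inf le_normalizer hMH.le
      have hlt' : normalizer (M : Set G) ⊓ H < H :=
        lt_of_le_of_ne inf_le_right fun h => hcon (h ▸ inf_le_left)
      have hx : (x : G) ∈ normalizer (M : Set G) := by
        rw [mem_normalizer_iff] at hxN ⊢
        intro m
        constructor
        · intro hm
          simpa [mem_subgroupOf] using (hxN ⟨m, hMH.le hm⟩).1 (by simpa [mem_subgroupOf] using hm)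
        · intro hm
          have hmH : m ∈ H := by
            have := H.mul_mem (H.mul_mem (H.inv_mem x.2) (hMH.le hm)) x.2
            simpa [mul_assoc] using this
          simpa [mem_subgroupOf] using (hxN ⟨m, hmH⟩).2 (by simpa [mem_subgroupOf] using hm)
      exact hxM (mem_subgroupOf.2 (hMmax ⟨hAM.trans hle, hlt'⟩ hle ⟨hx, x.2⟩))
    have ihA := ih M hMH A hAM hA hmax
    have hgen : ∀ h ∈ H, ∀ a ∈ A, ∀ c ∈ A, h * a * h⁻¹ * c * (h * a * h⁻¹)⁻¹ ∈ A := by
      intro h hh a ha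
      have hbM : h * a * h⁻¹ ∈ M := (mem_normalizer_iff.1 (hHM hh) a).1 (hAM ha)
      refine conj_mem_of_deepest hρ k hk hS hn hA hmax ?_ ?_
      · exact (hA.1.1.conj h) _ ⟨a, ha, rfl⟩ _ ⟨a, ha, rfl⟩
      · intro u hu v hv
        have hmem : ∀ w ∈ ({1, h * a * h⁻¹, (h * a * h⁻¹)⁻¹} : Set G), w ∈ M := by
          intro w hw
          rcases hw with rfl | rfl | rfl
          exacts [M.one_mem, hbM, M.inv_mem hbM]
        rintro _ ⟨d, hd, rfl⟩
        have hw : v⁻¹ * u * d * (v⁻¹ * u)⁻¹ ∈ normalizer (A : Set G) :=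
          ihA (subset_closure ⟨_, M.mul_mem (M.inv_mem (hmem v hv)) (hmem u hu), d, hd, rfl⟩)
        rw [mem_normalizer_iff] at hw
        rw [mem_normalizer_iff]
        intro y
        have hmap : ∀ z, z ∈ A.map (MulAut.conj v).toMonoidHom ↔ v⁻¹ * z * v ∈ A := fun z => by
          constructor
          · rintro ⟨e, he, rfl⟩; simpa [mul_assoc] using he
          · exact fun he => ⟨_, he, by simp [mul_assoc]⟩
        simp only [MulEquiv.coe_toMonoidHom, MulAut.conj_apply]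
        rw [hmap, hmap, hw (v⁻¹ * y * v)]
        simp [mul_assoc]
    refine (closure_le _).2 ?_
    rintro _ ⟨h, hh, a, ha, rfl⟩
    rw [SetLike.mem_coe, mem_normalizer_iff]
    intro y
    refine ⟨hgen h hh a ha y, fun hy => ?_⟩
    have h1 := hgen h hh a⁻¹ (A.inv_mem ha) _ hy
    simpa [mul_assoc] using h1

end Cfsg.Lib.QuadLimit
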